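import Groth.Agent.Lib.N2.Reduced
import Mathlib.AlgebraicGeometry.Normalization
import Mathlib.AlgebraicGeometry.Morphisms.Finite
import Mathlib.AlgebraicGeometry.ResidueField

/-!
# Finiteness of relative normalization over Nagata bases
-/

universe u

open CategoryTheory AlgebraicGeometry TopologicalSpace

set_option backward.isDefEq.respectTransparency false
set_option linter.style.haveILetI false

namespace GrothLib.NormNagata9

theorem finite_integralClosure_of_embedding {B : Type u} [CommRing B] [IsNoetherianRing B]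
    {A : Type u} [CommRing A] [Algebra B A] {ι : Type u} [Finite ι] (F : ι → Type u)
    [∀ i, CommRing (F i)] [∀ i, Algebra B (F i)] (ψ : ∀ i, A →ₐ[B] F i)
    (hinj : ∀ a, (∀ i, ψ i a = 0) → a = 0) (hF : ∀ i, Module.Finite B (integralClosure B (F i))) :
    Module.Finite B (integralClosure B A) := by
  let L : integralClosure B A →ₗ[B] ∀ i, integralClosure B (F i) :=
    LinearMap.pi fun i ↦ ((ψ i).toLinearMap.comp (integralClosure B A).val.toLinearMap).codRestrict
      (Subalgebra.toSubmodule (integralClosure B (F i))) fun a ↦ a.2.map (ψ i)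
  refine Module.Finite.of_injective L fun a b h ↦ Subtype.ext (sub_eq_zero.1 (hinj _ fun i ↦ ?_))
  rw [map_sub, sub_eq_zero]
  exact congrArg Subtype.val (congrFun h i)

variable {X S : Scheme.{u}} (f : X ⟶ S) [QuasiCompact f] [QuasiSeparated f]

theorem isFinite_fromNormalization_of_charts
    (h : ∀ U : S.Opens, IsAffineOpen U →
      letI := (f.app U).hom.toAlgebra
      Module.Finite Γ(S, U) (integralClosure Γ(S, U) Γ(X, f ⁻¹ᵁ U))) :
    IsFinite f.fromNormalization := by
  refine (isFinite_iff _).2 ⟨inferInstance, fun U hU ↦ ?_⟩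
  letI := (f.app U).hom.toAlgebra
  haveI := h U hU
  have h1 : (algebraMap Γ(S, U) (integralClosure Γ(S, U) Γ(X, f ⁻¹ᵁ U))).Finite :=
    RingHom.finite_algebraMap.2 inferInstance
  have h2 : Function.Surjective (f.normalizationObjIso hU).inv.hom :=
    (ConcreteCategory.bijective_of_isIso (f.normalizationObjIso hU).inv).2
  rw [f.fromNormalization_app hU, CommRingCat.hom_comp]
  exact (RingHom.Finite.of_surjective _ h2).comp h1

/-- Finiteness of normalization for Nagata base, residue extensions at generic points finitely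
generated. -/
theorem isFinite_fromNormalization [IsReduced X] (hS : ∀ U : S.affineOpens, CAlg.IsNagata Γ(S, U))
    (hfin : LocallyFinite (fun Z : ↥(irreducibleComponents X) ↦ (Z : Set X)))
    (hres : ∀ x : X, closure {x} ∈ irreducibleComponents X →
      (f.residueFieldMap x).hom.EssFiniteType) :
    IsFinite f.fromNormalization := by
  refine isFinite_fromNormalization_of_charts f fun U hU ↦ ?_
  let P := f ⁻¹ᵁ U
  let T := {x : X // closure {x} ∈ irreducibleComponents X ∧ x ∈ P}
  have hcomp : IsCompact (P : Set X) := QuasiCompact.isCompact_preimage _ U.2 hU.isCompact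
  haveI : Finite T := by
    have hfin' := (hfin.finite_nonempty_inter_compact hcomp).to_subtype
    refine Finite.of_injective (β := {Z : ↥(irreducibleComponents X) | ((Z : Set X) ∩ P).Nonempty})
      (fun t ↦ ⟨⟨closure {t.1}, t.2.1⟩, ⟨t.1, subset_closure rfl, t.2.2⟩⟩) fun a b h ↦ Subtype.ext ?_
    have e : closure ({a.1} : Set X) = closure {b.1} :=
      congrArg (fun z ↦ (z.1 : Set X)) (congrArg Subtype.val h :)
    exact ((inseparable_iff_closure_eq.2 e).eq)
  letI := (f.app U).hom.toAlgebra
  haveI := (hS ⟨U, hU⟩).1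
  letI : ∀ t : T, Algebra Γ(S, U) (X.residueField t.1) := fun t ↦
    ((X.evaluation P t.1 t.2.2).hom.comp (f.app U).hom).toAlgebra
  refine finite_integralClosure_of_embedding (fun t : T ↦ X.residueField t.1)
    (fun t ↦ { (X.evaluation P t.1 t.2.2).hom with commutes' := fun _ ↦ rfl }) (fun a ha ↦ ?_)
    fun t ↦ ?_
  · rw [← basicOpen_eq_bot_iff]
    refine eq_bot_iff.2 fun z hz ↦ ?_
    obtain ⟨z', hz'⟩ := QuasiSober.sober (α := X) (isIrreducible_irreducibleComponent (x := z))
      isClosed_irreducibleComponent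
    have hc : closure {z'} ∈ irreducibleComponents X := by
      rw [hz'.def]; exact irreducibleComponent_mem_irreducibleComponents z
    have hza : z' ∈ X.basicOpen a :=
      (hz'.specializes mem_irreducibleComponent).mem_open (X.basicOpen a).2 hz
    exact absurd hza ((Scheme.evaluation_eq_zero_iff_notMem_basicOpen (X := X) z' (X.basicOpen_le a hza) a).1
      (ha ⟨z', hc, X.basicOpen_le a hza⟩))
  · have hxU : f t.1 ∈ U := t.2.2
    letI := TopCat.Presheaf.algebra_section_stalk S.presheaf (⟨f t.1, hxU⟩ : U)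
    haveI := hU.isLocalization_stalk ⟨f t.1, hxU⟩
    have h1 : (S.presheaf.germ U (f t.1) hxU).hom.EssFiniteType :=
      RingHom.essFiniteType_algebraMap.2
        (Algebra.EssFiniteType.of_isLocalization _ (hU.primeIdealOf ⟨f t.1, hxU⟩).asIdeal.primeCompl)
    have h2 : (S.residue (f t.1)).hom.EssFiniteType :=
      (RingHom.FiniteType.of_surjective _ (S.residue_surjective (f t.1))).essFiniteType
    have h3 : (algebraMap Γ(S, U) (X.residueField t.1)).EssFiniteType := by
      have e : algebraMap Γ(S, U) (X.residueField t.1) =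
          (f.residueFieldMap t.1).hom.comp
            ((S.residue (f t.1)).hom.comp (S.presheaf.germ U (f t.1) hxU).hom) :=
        RingHom.ext fun s ↦ (Scheme.evaluation_naturality_apply f t.1 hxU s).symm
      rw [e]
      exact (h1.comp h2).comp (hres t.1 t.2.1)
    haveI := RingHom.essFiniteType_algebraMap.1 h3
    exact N2.finite_integralClosure_field (hS ⟨U, hU⟩) _

/-- Finiteness of normalization for a finite type morphism to a Nagata base. -/
theorem isFinite_fromNormalization_of_finiteType [IsReduced X] [LocallyOfFiniteType f]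
    (hS : ∀ U : S.affineOpens, CAlg.IsNagata Γ(S, U)) : IsFinite f.fromNormalization := by
  refine isFinite_fromNormalization_of_charts f fun U hU ↦ ?_
  let P := f ⁻¹ᵁ U
  have hcomp : IsCompact (P : Set X) := QuasiCompact.isCompact_preimage _ U.2 hU.isCompact
  have key : ∀ x : P, ∃ V : X.Opens, IsAffineOpen V ∧ x.1 ∈ V ∧ V ≤ P := fun x ↦
    exists_isAffineOpen_mem_and_subset x.2
  choose V hV hxV hVP using key
  obtain ⟨t, ht⟩ := hcomp.elim_finite_subcover (fun x : P ↦ (V x : Set X)) (fun x ↦ (V x).2)
    fun x hx ↦ Set.mem_iUnion.2 ⟨⟨x, hx⟩, hxV _⟩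
  letI := (f.app U).hom.toAlgebra
  haveI := (hS ⟨U, hU⟩).1
  letI : ∀ j : {x // x ∈ t}, Algebra Γ(S, U) Γ(X, V j.1) := fun j ↦
    ((X.presheaf.map (homOfLE (hVP j.1)).op).hom.comp (f.app U).hom).toAlgebra
  refine finite_integralClosure_of_embedding (fun j : {x // x ∈ t} ↦ Γ(X, V j.1))
    (fun j ↦ { (X.presheaf.map (homOfLE (hVP j.1)).op).hom with commutes' := fun _ ↦ rfl })
    (fun a ha ↦ ?_) fun j ↦ ?_
  · refine TopCat.Sheaf.eq_of_locally_eq' X.sheaf (fun j : {x // x ∈ t} ↦ V j.1) P
      (fun j ↦ homOfLE (hVP j.1)) (fun x hx ↦ ?_) _ _ fun j ↦ ?_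
    · obtain ⟨y, hy, hxy⟩ := Set.mem_iUnion₂.1 (ht hx)
      exact Opens.mem_iSup.2 ⟨⟨y, hy⟩, hxy⟩
    · exact (ha j).trans (map_zero _).symm
  · have hft : (algebraMap Γ(S, U) Γ(X, V j.1)).FiniteType :=
      LocallyOfFiniteType.finiteType_appLE f hU (hV j.1) (hVP j.1)
    haveI : Algebra.FiniteType Γ(S, U) Γ(X, V j.1) := hft
    exact N2.finite_integralClosure_of_essFiniteType (hS ⟨U, hU⟩) _

end GrothLib.NormNagata9
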